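import Mathlib.Algebra.BigOperators.Intervals
import Mathlib.Algebra.Order.BigOperators.Group.Finset
import Mathlib.Data.Real.Basic
import Mathlib.Tactic.Linarith
import Mathlib.Tactic.Ring
import Mathlib.Tactic.FieldSimp
import Mathlib.Tactic.LinearCombination
import Mathlib.Algebra.BigOperators.Ring.Finset

/-!
# Numerical lemma for stability of curves: a chain with negative weight
-/

set_option autoImplicit false

open Finset

namespace Groth.Agent.GITChain

/-- Abel summation bound -/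
theorem abel_nonneg {d R : ℕ → ℝ} {μ : ℕ} (h0 : d 0 = 0) (hd : ∀ i ≤ μ, 0 ≤ d i)
    (hR : ∀ i < μ, R (i + 1) ≤ R i) :
    2 * d μ * R μ ≤ ∑ i ∈ range μ, (d (i + 1) - d i) * (R (i + 1) + R i) := by
  induction μ with
  | zero => simp [h0]
  | succ μ ih =>
    have h := ih (fun i hi => hd i (by omega)) (fun i hi => hR i (by omega))
    rw [sum_range_succ]
    have h1 := mul_nonneg (hd (μ + 1) le_rfl) (sub_nonneg.2 (hR μ (by omega)))
    have h2 := mul_nonneg (hd μ (by omega)) (sub_nonneg.2 (hR μ (by omega)))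
    nlinarith

variable {n g : ℕ} (R : ℕ → ℝ)

/-- the value of a chain -/
def value (E c : ℕ → ℕ) (R : ℕ → ℝ) (μ : ℕ) : ℝ :=
  ∑ i ∈ range μ, ((E (c (i + 1)) : ℝ) - E (c i)) * (R (c (i + 1)) + R (c i))

theorem value_le {E f c : ℕ → ℕ} {μ : ℕ} (hle : ∀ i ≤ μ, E (c i) ≤ f (c i)) (h0 : f (c 0) = E (c 0))
    (hμ : f (c μ) = E (c μ)) (hR : ∀ i < μ, R (c (i + 1)) ≤ R (c i)) :
    value E c R μ ≤ value f c R μ := by
  have h := abel_nonneg (d := fun i => (f (c i) : ℝ) - E (c i)) (R := fun i => R (c i)) (μ := μ)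
    (by simp [h0]) (fun i hi => sub_nonneg.2 (Nat.cast_le.2 (hle i hi))) hR
  rw [hμ] at h
  simp only [sub_self, mul_zero, zero_mul] at h
  have e : value f c R μ = value E c R μ + ∑ i ∈ range μ,
      (((f (c (i + 1)) : ℝ) - E (c (i + 1))) - ((f (c i) : ℝ) - E (c i))) * (R (c (i + 1)) + R (c i)) := by
    rw [value, value, ← sum_add_distrib]
    exact sum_congr rfl fun i _ => by ring
  linarith

/-- the largest admissible weight function -/
def wt (n g : ℕ) (i : ℕ) : ℕ := if i ≤ n - g then i else i + g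

/-- the chain omitting a symmetric window around the jump -/
def chain (n g j : ℕ) (i : ℕ) : ℕ := if i ≤ n - g - j then i else i + 2 * j

/-- `q_j` -/
def q (n g : ℕ) (R : ℕ → ℝ) (j : ℕ) : ℝ := R (n - g - j) + R (n - g + 1 + j)

theorem sum_consec (m : ℕ) :
    ∑ i ∈ range m, (R (i + 1) + R i) = 2 * ∑ i ∈ range (m + 1), R i - R 0 - R m := by
  rw [sum_add_distrib]
  have h1 := sum_range_succ R m
  have h2 := sum_range_succ' R m
  linarith

theorem sum_window (j : ℕ) (hj : j ≤ n - g) :
    ∑ i ∈ Ico (n - g - j) (n - g + 1 + j), (R (i + 1) + R i) =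
      2 * ∑ l ∈ range (j + 1), q n g R l - q n g R j := by
  induction j with
  | zero => simp [q]; ring
  | succ j ih =>
    obtain ⟨a, ha⟩ : ∃ a, n - g - (j + 1) = a := ⟨_, rfl⟩
    have hb : n - g + 1 + (j + 1) = n - g + 1 + j + 1 := by omega
    have ha' : n - g - j = a + 1 := by omega
    rw [hb, ha, sum_Ico_succ_top (by omega), sum_eq_sum_Ico_succ_bot (by omega), ← ha', ih (by omega),
      sum_range_succ (fun l => q n g R l) (j + 1)]
    simp only [q, ha, ha', hb]
    ring

theorem value_chain (hg : g ≤ n) (j : ℕ) (hj : j < g) (hja : j ≤ n - g) :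
    value (wt n g) (chain n g j) R (n - 2 * j) =
      (∑ i ∈ range n, (R (i + 1) + R i)) + ((g : ℝ) + 2 * j + 2) * q n g R j -
        2 * ∑ l ∈ range (j + 1), q n g R l := by
  obtain ⟨a, ha⟩ : ∃ a, n - g - j = a := ⟨_, rfl⟩
  have hμ : n - 2 * j = a + 1 + (g - j - 1) := by omega
  rw [value, hμ, sum_range_add, sum_range_succ]
  have hfirst : ∀ i ∈ range a, ((wt n g (chain n g j (i + 1)) : ℝ) - wt n g (chain n g j i)) *
      (R (chain n g j (i + 1)) + R (chain n g j i)) = R (i + 1) + R i := by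
    intro i hi
    rw [mem_range] at hi
    rw [chain, if_pos (by omega), chain, if_pos (by omega), wt, if_pos (by omega), wt, if_pos (by omega)]
    push_cast; ring
  have hlast : ∀ i ∈ range (g - j - 1), ((wt n g (chain n g j (a + 1 + i + 1)) : ℝ) -
      wt n g (chain n g j (a + 1 + i))) * (R (chain n g j (a + 1 + i + 1)) + R (chain n g j (a + 1 + i))) =
        R (n - g + 1 + j + i + 1) + R (n - g + 1 + j + i) := by
    intro i _
    rw [chain, if_neg (by omega), chain, if_neg (by omega), wt, if_neg (by omega), wt, if_neg (by omega),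
      show a + 1 + i + 1 + 2 * j = n - g + 1 + j + i + 1 by omega,
      show a + 1 + i + 2 * j = n - g + 1 + j + i by omega]
    push_cast; ring
  have hmid : ((wt n g (chain n g j (a + 1)) : ℝ) - wt n g (chain n g j a)) *
      (R (chain n g j (a + 1)) + R (chain n g j a)) = ((g : ℝ) + 2 * j + 1) * q n g R j := by
    rw [chain, if_neg (by omega), chain, if_pos (by omega), wt, if_neg (by omega), wt, if_pos (by omega),
      q, ha, show n - g + 1 + j = a + 1 + 2 * j by omega]
    push_cast; ring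
  rw [sum_congr rfl hfirst, sum_congr rfl hlast, hmid]
  have hsplit : ∑ i ∈ range n, (R (i + 1) + R i) = (∑ i ∈ range a, (R (i + 1) + R i)) +
      (∑ i ∈ Ico a (n - g + 1 + j), (R (i + 1) + R i)) +
      ∑ i ∈ range (g - j - 1), (R (n - g + 1 + j + i + 1) + R (n - g + 1 + j + i)) := by
    rw [sum_range_add_sum_Ico _ (by omega), ← sum_range_add, show n - g + 1 + j + (g - j - 1) = n by omega]
  have hw := sum_window (n := n) (g := g) R j hja
  rw [ha] at hw
  rw [hsplit, hw]
  ring

/-- weighted average -/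
theorem sum_weighted (H : ℕ → ℝ) (ε : ℝ) (J : ℕ)
    (hH : ∀ j < J, ((g : ℝ) + 2 * j) * H j - ((g : ℝ) + 2 * j + 2) * H (j + 1) = ε) (Q : ℕ → ℝ) :
    ∑ j ∈ range J, (H j - H (j + 1)) * (((g : ℝ) + 2 * j + 2) * Q j - 2 * ∑ l ∈ range (j + 1), Q l) =
      ε * (∑ l ∈ range J, Q l) + 2 * H J * ∑ l ∈ range J, Q l := by
  induction J with
  | zero => simp
  | succ J ih =>
    rw [sum_range_succ, ih (fun j hj => hH j (by omega)), sum_range_succ Q]
    linear_combination Q J * hH J (by omega)

theorem sum_q (J : ℕ) (hJ : J ≤ n - g + 1) :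
    ∑ l ∈ range J, q n g R l = ∑ i ∈ Ico (n - g + 1 - J) (n - g + 1 + J), R i := by
  induction J with
  | zero => simp
  | succ J ih =>
    obtain ⟨a, ha⟩ : ∃ a, n - g + 1 - (J + 1) = a := ⟨_, rfl⟩
    rw [sum_range_succ, ih (by omega), ha, show n - g + 1 + (J + 1) = n - g + 1 + J + 1 by omega,
      sum_Ico_succ_top (by omega), sum_eq_sum_Ico_succ_bot (a := a) (by omega),
      show n - g + 1 - J = a + 1 by omega, q, show n - g - J = a by omega]
    ring

/-- main estimate: one of the chains is negative, or `g = 1` and the function is extremal -/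
theorem exists_chain (hg : 1 ≤ g) (hn : 2 * g ≤ n) (hanti : ∀ i j, i ≤ j → j ≤ n → R j ≤ R i)
    (hsum : ∑ i ∈ range (n + 1), R i = 0) (hR0 : 0 < R 0) :
    (∃ j < g, value (wt n g) (chain n g j) R (n - 2 * j) < 0) ∨ R 0 + R n < 0 := by
  by_contra hcon
  push Not at hcon
  obtain ⟨hall, hend⟩ := hcon
  let ε : ℝ := 2 * ((g : ℝ) - 1) / ((n : ℝ) + 1)
  have hg' : (1 : ℝ) ≤ g := by exact_mod_cast hg
  have hn' : 2 * (g : ℝ) ≤ n := by exact_mod_cast hn
  have hn1 : (0 : ℝ) < (n : ℝ) + 1 := by positivity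
  have hεe : ε * ((n : ℝ) + 1) = 2 * ((g : ℝ) - 1) := div_mul_cancel₀ _ hn1.ne'
  have hε0 : 0 ≤ ε := div_nonneg (by linarith) hn1.le
  have hε1 : ε < 1 := by rw [div_lt_one hn1]; linarith
  let H : ℕ → ℝ := fun j => if j = g then 0 else ((g : ℝ) - j * ε) / ((g : ℝ) + 2 * j)
  have hden : ∀ j : ℕ, ((g : ℝ) + 2 * j) ≠ 0 := fun j => by positivity
  have hHval : ∀ j < g, ((g : ℝ) + 2 * j) * H j = g - j * ε := fun j hj => by
    simp only [H, if_neg hj.ne]
    rw [mul_div_cancel₀ _ (hden j)]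
  have hrec : ∀ j < g - 1, ((g : ℝ) + 2 * j) * H j - ((g : ℝ) + 2 * j + 2) * H (j + 1) = ε := fun j hj => by
    rw [hHval j (by omega)]
    have := hHval (j + 1) (by omega)
    push_cast at this
    linarith
  have hpos : ∀ j < g, 0 ≤ H j := fun j hj => by
    have h := hHval j hj
    have : (j : ℝ) * ε ≤ g := by
      have : (j : ℝ) ≤ g := by exact_mod_cast hj.le
      nlinarith
    by_contra hneg
    push Not at hneg
    have : ((g : ℝ) + 2 * j) * H j < 0 := mul_neg_of_pos_of_neg (by positivity) hneg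
    linarith
  have hγ : ∀ j < g, 0 ≤ H j - H (j + 1) := fun j hj => by
    rcases Nat.lt_or_ge (j + 1) g with h | h
    · have h1 := hrec j (by omega)
      have h2 := hpos (j + 1) h
      by_contra hneg
      push Not at hneg
      have : ((g : ℝ) + 2 * j) * (H j - H (j + 1)) < 0 := mul_neg_of_pos_of_neg (by positivity) hneg
      linarith
    · have : H (j + 1) = 0 := if_pos (by omega)
      rw [this, sub_zero]; exact hpos j hj
  have hC : ∑ i ∈ range n, (R (i + 1) + R i) = -R 0 - R n := by rw [sum_consec, hsum]; ring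
  -- the average
  let Q : ℕ → ℝ := q n g R
  have havg : 0 ≤ ∑ j ∈ range g, (H j - H (j + 1)) *
      (-R 0 - R n + (((g : ℝ) + 2 * j + 2) * Q j - 2 * ∑ l ∈ range (j + 1), Q l)) := by
    refine sum_nonneg fun j hj => mul_nonneg (hγ j (mem_range.1 hj)) ?_
    have := hall j (mem_range.1 hj)
    rw [value_chain R (by omega) j (mem_range.1 hj) (by have := mem_range.1 hj; omega), hC] at this
    linarith
  have hone : ∑ j ∈ range g, (H j - H (j + 1)) = 1 := by
    rw [sum_range_sub']
    simp [H, (show (0 : ℕ) ≠ g by omega), (show (g : ℝ) ≠ 0 by linarith)]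
  obtain ⟨G, rfl⟩ : ∃ G, g = G + 1 := ⟨g - 1, by omega⟩
  simp only [mul_add (H _ - H _), sum_add_distrib] at havg
  rw [← Finset.sum_mul, hone, one_mul, sum_range_succ, sum_weighted (g := G + 1) H ε G (fun j hj => hrec j (by omega)),
    show H (G + 1) = 0 from if_pos rfl, sub_zero] at havg
  have hHG := hHval G (by omega)
  set T := ∑ l ∈ range (G + 1), Q l with hT
  set T' := ∑ l ∈ range G, Q l with hT'
  have hTT : T = T' + Q G := sum_range_succ Q G
  -- now everything is linear
  have hZ : 0 ≤ -R 0 - R n + ε * T + (((G : ℝ) + 1) * (1 - ε)) * Q G := by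
    have e : ε * T' + 2 * H G * T' + H G * ((((G + 1 : ℕ) : ℝ) + 2 * G + 2) * Q G - 2 * T) =
        ε * T + (((G : ℝ) + 1) * (1 - ε)) * Q G := by
      rw [hTT]
      push_cast at hHG ⊢
      linear_combination Q G * hHG
    linarith
  obtain ⟨m, hm⟩ : ∃ m, n - (G + 1) - G = m := ⟨_, rfl⟩
  have hm1 : 1 ≤ m := by omega
  have hQG : Q G = R m + R n := by
    simp only [Q, q, hm, show n - (G + 1) + 1 + G = n by omega]
  have hTsum : T = ∑ i ∈ Ico m (n + 1), R i := by
    rw [hT, sum_q R _ (by omega), show n - (G + 1) + 1 - (G + 1) = m by omega,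
      show n - (G + 1) + 1 + (G + 1) = n + 1 by omega]
  have hhead : R 0 + ((m : ℝ) - 1) * R m ≤ ∑ i ∈ range m, R i := by
    have h := card_nsmul_le_sum (Ico 1 m) R (R m) fun i hi => hanti i m (mem_Ico.1 hi).2.le (by omega)
    rw [Nat.card_Ico, nsmul_eq_mul, Nat.cast_sub hm1, Nat.cast_one] at h
    rw [range_eq_Ico, sum_eq_sum_Ico_succ_bot (by omega)]
    linarith
  have htail : R m + (2 * (G : ℝ) + 1) * R n ≤ T := by
    have h := card_nsmul_le_sum (Ico (m + 1) (n + 1)) R (R n) fun i hi =>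
      hanti i n (Nat.lt_succ_iff.1 (mem_Ico.1 hi).2) le_rfl
    rw [Nat.card_Ico, nsmul_eq_mul, show n + 1 - (m + 1) = 2 * G + 1 by omega] at h
    rw [hTsum, sum_eq_sum_Ico_succ_bot (by omega)]
    push_cast at h
    linarith
  have htot : (∑ i ∈ range m, R i) + T = 0 := by
    rw [hTsum, sum_range_add_sum_Ico _ (by omega), hsum]
  have hnm : (n : ℝ) + 1 = m + 2 * G + 2 := by
    have : n + 1 = m + 2 * G + 2 := by omega
    exact_mod_cast this
  have hg0 : 0 ≤ (G : ℝ) := Nat.cast_nonneg G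
  have hm0 : (1 : ℝ) ≤ m := by exact_mod_cast hm1
  push_cast at hεe
  set k : ℝ := ((G : ℝ) + 1) * (1 - ε) with hk
  have hk1 : (k - 1) * ((n : ℝ) + 1) = G * m := by
    rw [hk]; linear_combination -((G : ℝ) + 1) * hεe + (G : ℝ) * hnm
  have hkge : 0 ≤ k - 1 := by
    by_contra hneg
    push Not at hneg
    have := mul_neg_of_neg_of_pos hneg hn1
    nlinarith
  rw [hQG] at hZ
  have hle0 : R m ≤ R 0 := hanti 0 m (Nat.zero_le _) (by omega)
  rcases Nat.eq_zero_or_pos G with hG0 | hG0
  · subst hG0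
    have hn2 : (2 : ℝ) ≤ n := by push_cast at hn'; linarith
    have hk0 : k = 1 := by
      rcases mul_eq_zero.1 (show (k - 1) * ((n : ℝ) + 1) = 0 by rw [hk1]; simp) with h | h <;> linarith
    have hε : ε = 0 := by simp [ε]
    rw [hε, hk0] at hZ
    have hmeq : R m = R 0 := by linarith
    rw [hmeq] at hhead htail
    push_cast at htail hnm
    have hnn : n ≥ 2 := by omega
    have : ((m : ℝ)) * R 0 + R 0 + R n ≤ 0 := by linarith
    nlinarith
  · have hG1 : (1 : ℝ) ≤ G := by exact_mod_cast hG0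
    rcases lt_or_ge (R m) 0 with hneg | hnn
    · have h1 : R n ≤ R m := hanti m n (by omega) le_rfl
      have h2 : (k - 1) * (R m + R n) ≤ 0 := mul_nonpos_of_nonneg_of_nonpos hkge (by linarith)
      have h3 : T < 0 := by
        rw [hTsum]
        refine sum_neg (fun i hi => lt_of_le_of_lt (hanti m i (mem_Ico.1 hi).1 (Nat.lt_succ_iff.1 (mem_Ico.1 hi).2)) hneg)
          (nonempty_Ico.2 (by omega))
      have h4 : 0 < ε := by
        by_contra h
        push Not at h
        have := mul_nonpos_of_nonpos_of_nonneg h hn1.le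
        linarith
      nlinarith
    · have h1 : T ≤ -R 0 - ((m : ℝ) - 1) * R m := by linarith
      have h2 : (2 * (G : ℝ) + 1) * R n ≤ -R 0 - (m : ℝ) * R m := by linarith
      have h5 : (2 * (G : ℝ) + 1) * (ε * T) ≤ (2 * (G : ℝ) + 1) * (ε * (-R 0 - ((m : ℝ) - 1) * R m)) :=
        mul_le_mul_of_nonneg_left (mul_le_mul_of_nonneg_left h1 hε0) (by linarith)
      have h6 : (k - 1) * ((2 * (G : ℝ) + 1) * R n) ≤ (k - 1) * (-R 0 - (m : ℝ) * R m) :=
        mul_le_mul_of_nonneg_left h2 hkge
      have h7 : k - 1 - ε * m < 0 := by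
        by_contra h
        push Not at h
        have := mul_nonneg h hn1.le
        nlinarith [mul_pos (lt_of_lt_of_le one_pos hG1) (lt_of_lt_of_le one_pos hm0)]
      have h9 : (k - 1 - ε * ((m : ℝ))) * R m ≤ 0 := mul_nonpos_of_nonpos_of_nonneg h7.le hnn
      have hkpos : 0 < k - 1 := by
        by_contra h
        push Not at h
        have := mul_nonpos_of_nonpos_of_nonneg h hn1.le
        nlinarith
      have i1 := mul_nonneg (mul_nonneg (show (0:ℝ) ≤ 2 * G + 1 by linarith) (show (0:ℝ) ≤ 1 + ε by linarith))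
        (sub_nonneg.2 hle0)
      have i2 := mul_pos hkpos hR0
      have i3 := mul_nonneg (mul_nonneg hkge (show (0:ℝ) ≤ m by linarith)) hnn
      have i4 := mul_nonpos_of_nonneg_of_nonpos (show (0:ℝ) ≤ 2 * G + 1 by linarith) h9
      have i5 := mul_nonneg (show (0:ℝ) ≤ 2 * G + 1 by linarith) hZ
      linarith

end Groth.Agent.GITChain
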